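import Groth.Prelude.Def_AlgGrp
import Groth.Agent.Lib.FlatFactor.Orbit
import Groth.Agent.Lib.DiagGrp.ActionTrivial
import Groth.Agent.Lib.SecLocus.Connected
import Mathlib.AlgebraicGeometry.AlgClosed.Basic

/-!
# Stable irreducible closed subsets of a product with finitely many orbits
-/

universe u

open CategoryTheory CategoryTheory.Limits MonoidalCategory CartesianMonoidalCategory MonObj GrpObj
open AlgebraicGeometry TopologicalSpace

namespace GrothLib.Orbit27

variable {k : Type u} [Field k] [IsAlgClosed k]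


/-- The rational point of a closed point. -/
noncomputable def ratPt {P : (Over (Spec (CommRingCat.of k)))} [LocallyOfFiniteType P.hom] (z : P.left) (hz : z ∈ closedPoints P.left) : 𝟙_ (Over (Spec (CommRingCat.of k))) ⟶ P :=
  Over.homMk (pointOfClosedPoint P.hom z hz) (pointOfClosedPoint_comp P.hom z hz)

theorem ratPt_apply {P : (Over (Spec (CommRingCat.of k)))} [LocallyOfFiniteType P.hom] (z : P.left) (hz : z ∈ closedPoints P.left) :
    (ratPt z hz).left.base (IsLocalRing.closedPoint k) = z :=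
  pointOfClosedPoint_apply P.hom z hz _

theorem ratPt_ext {P : (Over (Spec (CommRingCat.of k)))} [LocallyOfFiniteType P.hom] {x y : 𝟙_ (Over (Spec (CommRingCat.of k))) ⟶ P}
    (h : x.left.base (IsLocalRing.closedPoint k) = y.left.base (IsLocalRing.closedPoint k)) : x = y :=
  Over.OverMorphism.ext (ext_of_apply_closedPoint_eq P.hom (Over.w x) (Over.w y) h)

theorem comp_apply {P Q : (Over (Spec (CommRingCat.of k)))} (x : 𝟙_ (Over (Spec (CommRingCat.of k))) ⟶ P) (f : P ⟶ Q) :
    (x ≫ f).left.base (IsLocalRing.closedPoint k) = f.left.base (x.left.base (IsLocalRing.closedPoint k)) := rfl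

/-- A closed set contains a locally closed set if it contains its closed points. -/
theorem subset_of_closedPoints {P : (Over (Spec (CommRingCat.of k)))} [LocallyOfFiniteType P.hom] {A C : Set P.left} (hA : IsClosed A) (hC : IsClosed C)
    (h : ∀ p : 𝟙_ (Over (Spec (CommRingCat.of k))) ⟶ P, p.left.base (IsLocalRing.closedPoint k) ∈ A → p.left.base (IsLocalRing.closedPoint k) ∈ C) : A ⊆ C := by
  haveI : JacobsonSpace P.left := LocallyOfFiniteType.jacobsonSpace P.hom
  rw [← hA.closure_eq, ← JacobsonSpace.closure_inter_closedPoints_eq_closure hA.isLocallyClosed,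
    hC.closure_subset_iff]
  rintro z ⟨hz, hzc⟩
  have := h (ratPt z hzc)
  rw [ratPt_apply] at this
  exact this hz

variable {B X Y : (Over (Spec (CommRingCat.of k)))} [GrpObj B]

/-- Translation of a product by a rational point of the group. -/
theorem translate_eq (a : AlgGrp.Action B X) (b : 𝟙_ (Over (Spec (CommRingCat.of k))) ⟶ B) :
    lift (toUnit (X ⊗ Y) ≫ b) (𝟙 (X ⊗ Y)) ≫ (α_ B X Y).inv ≫ (a.act ▷ Y) =
      (lift (toUnit X ≫ b) (𝟙 X) ≫ a.act) ▷ Y := by
  conv_lhs => rw [← lift_fst_snd (X := X) (Y := Y), lift_lift_associator_inv_assoc, lift_whiskerRight]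
  apply CartesianMonoidalCategory.hom_ext
  · rw [lift_fst, whiskerRight_fst, comp_lift_assoc, Category.comp_id, comp_toUnit_assoc]
  · rw [lift_snd, whiskerRight_snd]

theorem point_act (a : AlgGrp.Action B X) (b : 𝟙_ (Over (Spec (CommRingCat.of k))) ⟶ B) (x : 𝟙_ (Over (Spec (CommRingCat.of k))) ⟶ X) :
    x ≫ (lift (toUnit X ≫ b) (𝟙 X) ≫ a.act : X ⟶ X) = (lift b x ≫ a.act : 𝟙_ (Over (Spec (CommRingCat.of k))) ⟶ X) := by
  rw [comp_lift_assoc, Category.comp_id, comp_toUnit_assoc, toUnit_unique (toUnit _) (𝟙 _), Category.id_comp]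

theorem main [IsAffine B.left] [Smooth B.hom] [ConnectedSpace B.left] [LocallyOfFiniteType X.hom]
    [LocallyOfFiniteType Y.hom] (a : AlgGrp.Action B X)
    (hfin : Set.Finite {S : Set ↥X.left | ∃ x : 𝟙_ (Over (Spec (CommRingCat.of k))) ⟶ X, S = Set.range ⇑(a.orbitMap x).left.base})
    (Z : Set ↥(X ⊗ Y).left) (hZc : IsClosed Z) (hZi : IsIrreducible Z)
    (hZs : ∀ b : 𝟙_ (Over (Spec (CommRingCat.of k))) ⟶ B,
      ⇑((lift (toUnit X ≫ b) (𝟙 X) ≫ a.act) ▷ Y).left.base '' Z ⊆ Z) :
    ∃ (V : Set ↥X.left) (W : Set ↥Y.left), IsClosed V ∧ IsIrreducible V ∧ IsClosed W ∧ IsIrreducible W ∧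
      (∀ b : 𝟙_ (Over (Spec (CommRingCat.of k))) ⟶ B, ⇑(lift (toUnit X ≫ b) (𝟙 X) ≫ a.act).left.base '' V ⊆ V) ∧
      Z = ⇑(fst X Y).left.base ⁻¹' V ∩ ⇑(snd X Y).left.base ⁻¹' W := by
  haveI : LocallyOfFiniteType B.hom := inferInstance
  haveI : LocallyOfFiniteType (X ⊗ Y).hom := by
    show LocallyOfFiniteType (pullback.fst X.hom Y.hom ≫ X.hom)
    infer_instance
  haveI : JacobsonSpace B.left := LocallyOfFiniteType.jacobsonSpace B.hom
  haveI : JacobsonSpace X.left := LocallyOfFiniteType.jacobsonSpace X.hom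
  haveI : IrreducibleSpace B.left := GrothLib.SecLocus.irreducibleSpace_of_smooth_connected k B.hom
  have hmove : ∀ (b : 𝟙_ (Over (Spec (CommRingCat.of k))) ⟶ B) (x : 𝟙_ (Over (Spec (CommRingCat.of k))) ⟶ X) (y : 𝟙_ (Over (Spec (CommRingCat.of k))) ⟶ Y),
      (lift x y).left.base (IsLocalRing.closedPoint k) ∈ Z → (lift (lift b x ≫ a.act) y).left.base (IsLocalRing.closedPoint k) ∈ Z := by
    intro b x y h
    refine hZs b ⟨_, h, ?_⟩
    rw [← comp_apply, lift_whiskerRight, point_act]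
  choose rep hrep using fun S : hfin.toFinset => hfin.mem_toFinset.1 S.2
  let W : hfin.toFinset → Set Y.left := fun S => (lift (toUnit Y ≫ rep S) (𝟙 Y)).left.base ⁻¹' Z
  have hWc : ∀ S, IsClosed (W S) := fun S => hZc.preimage (lift (toUnit Y ≫ rep S) (𝟙 Y)).left.continuous
  let F : hfin.toFinset → Set (X ⊗ Y).left := fun S =>
    (fst X Y).left.base ⁻¹' closure S.1 ∩ (snd X Y).left.base ⁻¹' W S
  have hFc : ∀ S, IsClosed (F S) := fun S =>
    (isClosed_closure.preimage (fst X Y).left.continuous).inter ((hWc S).preimage (snd X Y).left.continuous)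
  -- every piece lies in `Z`
  have hFZ : ∀ S, F S ⊆ Z := by
    intro S
    refine subset_of_closedPoints (hFc S) hZc fun p hp => ?_
    obtain ⟨hp1, hp2⟩ := hp
    rw [← lift_comp_fst_snd p]
    have hy : (lift (rep S) (p ≫ snd X Y)).left.base (IsLocalRing.closedPoint k) ∈ Z := by
      have h' : (p ≫ snd X Y ≫ lift (toUnit Y ≫ rep S) (𝟙 Y)).left.base (IsLocalRing.closedPoint k) ∈ Z := hp2
      rwa [comp_lift, Category.comp_id, comp_lift, comp_toUnit_assoc, comp_toUnit_assoc,
        toUnit_unique (toUnit _) (𝟙 _), Category.id_comp] at h'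
    let s : X ⟶ X ⊗ Y := lift (𝟙 X) (toUnit X ≫ p ≫ snd X Y)
    have hs : ∀ x : 𝟙_ (Over (Spec (CommRingCat.of k))) ⟶ X, lift x (p ≫ snd X Y) = x ≫ s := by
      intro x
      rw [comp_lift, Category.comp_id, comp_toUnit_assoc, toUnit_unique (toUnit _) (𝟙 _), Category.id_comp]
    have hB : (Set.univ : Set B.left) ⊆ (a.orbitMap (rep S) ≫ s).left.base ⁻¹' Z := by
      refine subset_of_closedPoints isClosed_univ (hZc.preimage (a.orbitMap (rep S) ≫ s).left.continuous) fun b _ => ?_
      show (b ≫ a.orbitMap (rep S) ≫ s).left.base (IsLocalRing.closedPoint k) ∈ Z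
      rw [← Category.assoc, ← hs, GrothLib.FlatFactor.comp_orbitMap, toUnit_unique (toUnit _) (𝟙 _), Category.id_comp]
      exact hmove b _ _ hy
    have hS : S.1 ⊆ s.left.base ⁻¹' Z := by
      rw [hrep S]
      rintro _ ⟨g, rfl⟩
      exact hB (Set.mem_univ g)
    rw [hs]
    exact closure_minimal hS (hZc.preimage s.left.continuous) hp1
  -- `Z` is covered by the pieces
  have hZF : Z ⊆ ⋃ S, F S := by
    refine subset_of_closedPoints hZc (isClosed_iUnion_of_finite hFc) fun p hp => ?_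
    let x : 𝟙_ (Over (Spec (CommRingCat.of k))) ⟶ X := p ≫ fst X Y
    let y : 𝟙_ (Over (Spec (CommRingCat.of k))) ⟶ Y := p ≫ snd X Y
    let S : hfin.toFinset := ⟨Set.range (a.orbitMap x).left.base, hfin.mem_toFinset.2 ⟨x, rfl⟩⟩
    have hxx : (1 : 𝟙_ (Over (Spec (CommRingCat.of k))) ⟶ B) ≫ a.orbitMap x = x := by
      rw [GrothLib.FlatFactor.comp_orbitMap, GrothLib.DiagGrp.act_one, toUnit_unique (toUnit _) (𝟙 _), Category.id_comp]
    have hxS : x.left.base (IsLocalRing.closedPoint k) ∈ S.1 := ⟨(1 : 𝟙_ (Over (Spec (CommRingCat.of k))) ⟶ B).left.base (IsLocalRing.closedPoint k), by rw [← comp_apply, hxx]⟩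
    have hxc : x.left.base (IsLocalRing.closedPoint k) ∈ closedPoints X.left := pointEquivClosedPoint X.hom ⟨x.left, Over.w x⟩ |>.2
    obtain ⟨g, hg, hgc⟩ := nonempty_inter_closedPoints (Z := (a.orbitMap (rep S)).left.base ⁻¹' {x.left.base (IsLocalRing.closedPoint k)})
      ((hrep S).le hxS) (IsClosed.preimage (a.orbitMap (rep S)).left.continuous hxc).isLocallyClosed
    have hb : lift (ratPt g hgc) (rep S) ≫ a.act = x := by
      have : ratPt g hgc ≫ a.orbitMap (rep S) = x := ratPt_ext (by rw [comp_apply, ratPt_apply]; exact hg)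
      rwa [GrothLib.FlatFactor.comp_orbitMap, toUnit_unique (toUnit _) (𝟙 _), Category.id_comp] at this
    have hy : (lift (rep S) y).left.base (IsLocalRing.closedPoint k) ∈ Z := by
      have h' := hmove (ratPt g hgc)⁻¹ x y (by rw [lift_comp_fst_snd]; exact hp)
      rwa [← hb, ← GrothLib.DiagGrp.act_mul, inv_mul_cancel, GrothLib.DiagGrp.act_one] at h'
    refine Set.mem_iUnion.2 ⟨S, subset_closure hxS, ?_⟩
    show (y ≫ lift (toUnit Y ≫ rep S) (𝟙 Y)).left.base (IsLocalRing.closedPoint k) ∈ Z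
    rwa [comp_lift, Category.comp_id, comp_toUnit_assoc, toUnit_unique (toUnit _) (𝟙 _), Category.id_comp]
  classical
  obtain ⟨_, hT, hZT⟩ := isIrreducible_iff_sUnion_isClosed.1 hZi (Finset.univ.image F)
    (fun z hz => by obtain ⟨S, -, rfl⟩ := Finset.mem_image.1 hz; exact hFc S)
    (by rw [Finset.coe_image, Finset.coe_univ, Set.image_univ, Set.sUnion_range]; exact hZF)
  obtain ⟨S, -, rfl⟩ := Finset.mem_image.1 hT
  have hZeq : Z = F S := hZT.antisymm (hFZ S)
  refine ⟨closure S.1, W S, isClosed_closure, ?_, hWc S, ?_, ?_, hZeq⟩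
  · rw [hrep S, ← Set.image_univ]
    exact ((IrreducibleSpace.isIrreducible_univ B.left).image _
      (a.orbitMap (rep S)).left.continuous.continuousOn).closure
  · have hW : W S = (snd X Y).left.base '' Z := by
      refine Set.Subset.antisymm (fun w hw => ⟨_, hw, ?_⟩) ?_
      · rw [← Scheme.Hom.comp_apply, ← Over.comp_left, lift_snd]; rfl
      · rintro _ ⟨z, hz, rfl⟩
        exact (hZeq.le hz).2
    rw [hW]
    exact hZi.image _ (snd X Y).left.continuous.continuousOn
  · intro b
    refine (image_closure_subset_closure_image (lift (toUnit X ≫ b) (𝟙 X) ≫ a.act).left.continuous).trans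
      (closure_mono ?_)
    rw [hrep S]
    rintro _ ⟨_, ⟨g, rfl⟩, rfl⟩
    refine ⟨((toUnit B ≫ b) * 𝟙 B).left.base g, ?_⟩
    rw [← Scheme.Hom.comp_apply, ← Scheme.Hom.comp_apply, ← Over.comp_left, ← Over.comp_left]
    congr 2
    rw [GrothLib.FlatFactor.comp_orbitMap, comp_lift_assoc, Category.comp_id, comp_toUnit_assoc,
      GrothLib.DiagGrp.act_mul]
    conv_rhs => rw [← Category.id_comp (a.orbitMap (rep S)), GrothLib.FlatFactor.comp_orbitMap]

end GrothLib.Orbit27
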